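import Mathlib
import Cfsg.Agent.Lib.helper17.SLP.Defs

/-!
# Project SP4 (designer helper3): S2293 (10u).  `Sp₄(F)` (`F` a finite field) has a presentation with
6 generators and at most 35 relations, `PSp₄(F)` one with 6 generators and at most 36 relations.

The presentation is "two copies of the `SL₂` presentation of project SLP (S2286) + 12 structural relators".
Generators of `Sp₄(F)` (`ζ` a generator of `Fˣ`; `Sp₄(F) = Matrix.symplecticGroup (Fin 2) F`, basis `e₁ e₂ f₁ f₂`):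
`(u_a, h_a, w_a) = rhoA (xM 1, hM ζ, wM)` and `(u_b, h_b, w_b) = rhoB (xM 1, hM ζ, wM)`, where
`rhoA M = [[M, 0], [0, (M⁻¹)ᵀ]]` is the SHORT root `SL₂` (simple root `a = e₁ - e₂`) and `rhoB M` acts as `M` on the
hyperbolic pair `(e₂, f₂)` (LONG simple root `b = 2 e₂`).  Positive roots: `a`, `b`, `c = a + b` (short), `d = 2a + b` (long).

In an abstract group `G` everything is phrased through two homomorphisms `φa φb : SL₂(F) →* G` (row `sl_hom`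
produces them from the SLP relators): `rx φ t = φ (xM t)`, `rh φ s = φ (hM s)`, `rn φ = φ wM`,
`xc t = w_b⁻¹ x_a(t) w_b`, `xd t = w_a⁻¹ x_b(t) w_a`.

This file: the root maps, the hypothesis bundle `Hyp` (the 12 structural relators), the interface structures
`Tor4 Wact4 Comm4 RD4`, the words in `FreeGroup (Fin 6)`, the two embeddings `rhoA rhoB`.
-/

set_option autoImplicit false

namespace Cfsg.Agent.Lib.helper3.SP4

open Cfsg.Agent.Lib.helper17.SLP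

universe u v w

section Roots

variable {F : Type u} [Field F] {G : Type v} [Group G]

/-- `x(t)` of the `SL₂` given by `φ`. -/
def rx (φ : Matrix.SpecialLinearGroup (Fin 2) F →* G) (t : F) : G := φ (xM t)

/-- `h(s)` of the `SL₂` given by `φ`. -/
def rh (φ : Matrix.SpecialLinearGroup (Fin 2) F →* G) (s : Fˣ) : G := φ (hM s)

/-- the Weyl element of the `SL₂` given by `φ`. -/
def rn (φ : Matrix.SpecialLinearGroup (Fin 2) F →* G) : G := φ wM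

/-- the root map of `c = a + b`: `x_c(t) = w_b⁻¹ x_a(t) w_b`. -/
def xc (φa φb : Matrix.SpecialLinearGroup (Fin 2) F →* G) (t : F) : G :=
  (rn φb)⁻¹ * rx φa t * rn φb

/-- the root map of `d = 2a + b`: `x_d(t) = w_a⁻¹ x_b(t) w_a`. -/
def xd (φa φb : Matrix.SpecialLinearGroup (Fin 2) F →* G) (t : F) : G :=
  (rn φa)⁻¹ * rx φb t * rn φa

/-- The 12 structural relations between the two `SL₂`'s (`ζ` a generator of `Fˣ`). -/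
structure Hyp (ζ : Fˣ) (φa φb : Matrix.SpecialLinearGroup (Fin 2) F →* G) : Prop where
  /-- `[h_a, h_b] = 1` -/
  T1 : Commute (rh φa ζ) (rh φb ζ)
  /-- `h_b⁻¹ x_a(1) h_b = x_a(ζ)` -/
  T2 : (rh φb ζ)⁻¹ * rx φa 1 * rh φb ζ = rx φa (ζ : F)
  /-- `h_a x_b(1) h_a⁻¹ = h_b⁻¹ x_b(1) h_b` (`= x_b(ζ⁻²)`) -/
  T3 : rh φa ζ * rx φb 1 * (rh φa ζ)⁻¹ = (rh φb ζ)⁻¹ * rx φb 1 * rh φb ζ
  /-- `w_a h_b w_a⁻¹ = h_b h_a` -/
  N4 : rn φa * rh φb ζ * (rn φa)⁻¹ = rh φb ζ * rh φa ζ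
  /-- `w_b h_a w_b⁻¹ = h_a h_b²` -/
  N5 : rn φb * rh φa ζ * (rn φb)⁻¹ = rh φa ζ * rh φb ζ ^ 2
  /-- braid relation of length 4 -/
  N6 : rn φa * rn φb * rn φa * rn φb = rn φb * rn φa * rn φb * rn φa
  /-- the reflection in `a + b` inverts `x_a(1)` -/
  W7 : (rn φb * rn φa * (rn φb)⁻¹) * rx φa 1 * (rn φb * rn φa * (rn φb)⁻¹)⁻¹ = (rx φa 1)⁻¹
  /-- the reflection in `2a + b` centralises `x_b(1)` -/
  W8 : Commute (rn φa * rn φb * (rn φa)⁻¹) (rx φb 1)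
  /-- `[x_a(1), x_b(1)] = x_c(1) x_d(1)` -/
  C9 : cm (rx φa 1) (rx φb 1) = xc φa φb 1 * xd φa φb 1
  /-- `[x_a(1), x_c(1)] = x_d(2) = x_d(1)²` -/
  C10 : cm (rx φa 1) (xc φa φb 1) = xd φa φb 1 ^ 2
  /-- `[x_a(1), x_d(1)] = 1` -/
  C11 : Commute (rx φa 1) (xd φa φb 1)
  /-- `[x_b(1), x_d(1)] = 1` -/
  C12 : Commute (rx φb 1) (xd φa φb 1)

/-- `g` acts on the root map `X` through multiplication by `c`. -/
def Act (g : G) (X : F → G) (c : F) : Prop := ∀ t, g * X t * g⁻¹ = X (c * t)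

/-- The torus: `h_a(s) h_b(r)` commute, the Weyl elements act on them, and they act on the four positive
root maps through the characters `a = s²/r`, `b = r²/s²`, `c = r`, `d = s²` of `h_a(s) h_b(r)`. -/
structure Tor4 (φa φb : Matrix.SpecialLinearGroup (Fin 2) F →* G) : Prop where
  comm : ∀ s r : Fˣ, Commute (rh φa s) (rh φb r)
  wa_hb : ∀ r : Fˣ, rn φa * rh φb r * (rn φa)⁻¹ = rh φb r * rh φa r
  wb_ha : ∀ s : Fˣ, rn φb * rh φa s * (rn φb)⁻¹ = rh φa s * rh φb (s ^ 2)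
  wa_hb' : ∀ r : Fˣ, (rn φa)⁻¹ * rh φb r * rn φa = rh φb r * rh φa r
  wb_ha' : ∀ s : Fˣ, (rn φb)⁻¹ * rh φa s * rn φb = rh φa s * rh φb (s ^ 2)
  aa : ∀ s : Fˣ, Act (rh φa s) (rx φa) ((s : F) ^ 2)
  ab : ∀ r : Fˣ, Act (rh φb r) (rx φa) ((r⁻¹ : Fˣ) : F)
  ba : ∀ s : Fˣ, Act (rh φa s) (rx φb) (((s⁻¹ : Fˣ) : F) ^ 2)
  bb : ∀ r : Fˣ, Act (rh φb r) (rx φb) ((r : F) ^ 2)
  ca : ∀ s : Fˣ, Act (rh φa s) (xc φa φb) 1
  cb : ∀ r : Fˣ, Act (rh φb r) (xc φa φb) (r : F)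
  da : ∀ s : Fˣ, Act (rh φa s) (xd φa φb) ((s : F) ^ 2)
  db : ∀ r : Fˣ, Act (rh φb r) (xd φa φb) 1

/-- The action of `w_a`, `w_b` on the positive root maps other than their own. -/
structure Wact4 (φa φb : Matrix.SpecialLinearGroup (Fin 2) F →* G) : Prop where
  a_b : ∀ t, rn φa * rx φb t * (rn φa)⁻¹ = xd φa φb t
  a_d : ∀ t, rn φa * xd φa φb t * (rn φa)⁻¹ = rx φb t
  a_c : ∀ t, rn φa * xc φa φb t * (rn φa)⁻¹ = xc φa φb (-t)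
  b_a : ∀ t, rn φb * rx φa t * (rn φb)⁻¹ = xc φa φb (-t)
  b_c : ∀ t, rn φb * xc φa φb t * (rn φb)⁻¹ = rx φa t
  b_d : ∀ t, rn φb * xd φa φb t * (rn φb)⁻¹ = xd φa φb t

/-- The commutator relations between the four positive root maps, for all parameters. -/
structure Comm4 (φa φb : Matrix.SpecialLinearGroup (Fin 2) F →* G) : Prop where
  ad : ∀ s t, Commute (rx φa s) (xd φa φb t)
  bd : ∀ s t, Commute (rx φb s) (xd φa φb t)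
  cd : ∀ s t, Commute (xc φa φb s) (xd φa φb t)
  bc : ∀ s t, Commute (rx φb s) (xc φa φb t)
  ac : ∀ s t, cm (rx φa s) (xc φa φb t) = xd φa φb (2 * s * t)
  ab : ∀ s t, cm (rx φa s) (rx φb t) = xc φa φb (s * t) * xd φa φb (s ^ 2 * t)

/-- the torus `T = ⟨h_a(s), h_b(r)⟩`. -/
def TT (φa φb : Matrix.SpecialLinearGroup (Fin 2) F →* G) : Subgroup G :=
  Subgroup.closure (Set.range (rh φa) ∪ Set.range (rh φb))

/-- the root subgroup of a root map. -/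
def RG (X : F → G) : Subgroup G := Subgroup.closure (Set.range X)

end Roots

section BN

variable {G : Type u} [Group G]

/-- the eight Bruhat cell representatives of type `B₂`. -/
def cells8 (n1 n2 : G) : Set G :=
  {1, n1, n2, n1 * n2, n2 * n1, n1 * n2 * n1, n2 * n1 * n2, n1 * n2 * n1 * n2}

/-- the union of the eight double cosets `B m B`. -/
def Cell8 (B : Subgroup G) (n1 n2 : G) : Set G :=
  {g | ∃ m ∈ cells8 n1 n2, ∃ b₁ ∈ B, ∃ b₂ ∈ B, g = b₁ * m * b₂}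

/-- Subgroup-level root datum of type `B₂` (only what the Bruhat count uses): torus `T`, positive root groups
`Xa Xb` (simple), `Xc Xd`, Weyl elements `n1` (for `a`), `n2` (for `b`).  `s_a : b ↔ d, c ↦ c`; `s_b : a ↔ c, d ↦ d`. -/
structure RD4 (q : ℕ) (T Xa Xb Xc Xd : Subgroup G) (n1 n2 : G) : Prop where
  finT : Finite T
  fina : Finite Xa ∧ Nat.card Xa ≤ q
  finb : Finite Xb ∧ Nat.card Xb ≤ q
  finc : Finite Xc ∧ Nat.card Xc ≤ q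
  find : Finite Xd ∧ Nat.card Xd ≤ q
  cad : ∀ a ∈ Xa, ∀ d ∈ Xd, Commute a d
  cbd : ∀ b ∈ Xb, ∀ d ∈ Xd, Commute b d
  ccd : ∀ c ∈ Xc, ∀ d ∈ Xd, Commute c d
  cbc : ∀ b ∈ Xb, ∀ c ∈ Xc, Commute b c
  cac : ∀ a ∈ Xa, ∀ c ∈ Xc, a * c * a⁻¹ * c⁻¹ ∈ Xd
  cab : ∀ a ∈ Xa, ∀ b ∈ Xb, ∃ c ∈ Xc, ∃ d ∈ Xd, a * b * a⁻¹ * b⁻¹ = c * d
  ta : ∀ τ ∈ T, ∀ g ∈ Xa, τ * g * τ⁻¹ ∈ Xa
  tb : ∀ τ ∈ T, ∀ g ∈ Xb, τ * g * τ⁻¹ ∈ Xb
  tc : ∀ τ ∈ T, ∀ g ∈ Xc, τ * g * τ⁻¹ ∈ Xc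
  td : ∀ τ ∈ T, ∀ g ∈ Xd, τ * g * τ⁻¹ ∈ Xd
  n1T : ∀ τ ∈ T, n1 * τ * n1⁻¹ ∈ T
  n1b : ∀ g ∈ Xb, n1 * g * n1⁻¹ ∈ Xd
  n1d : ∀ g ∈ Xd, n1 * g * n1⁻¹ ∈ Xb
  n1c : ∀ g ∈ Xc, n1 * g * n1⁻¹ ∈ Xc
  n1b' : ∀ g ∈ Xb, n1⁻¹ * g * n1 ∈ Xd
  n1d' : ∀ g ∈ Xd, n1⁻¹ * g * n1 ∈ Xb
  n1c' : ∀ g ∈ Xc, n1⁻¹ * g * n1 ∈ Xc
  n1sq : n1 ^ 2 ∈ T
  n2T : ∀ τ ∈ T, n2 * τ * n2⁻¹ ∈ T
  n2a : ∀ g ∈ Xa, n2 * g * n2⁻¹ ∈ Xc
  n2c : ∀ g ∈ Xc, n2 * g * n2⁻¹ ∈ Xa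
  n2d : ∀ g ∈ Xd, n2 * g * n2⁻¹ ∈ Xd
  n2a' : ∀ g ∈ Xa, n2⁻¹ * g * n2 ∈ Xc
  n2c' : ∀ g ∈ Xc, n2⁻¹ * g * n2 ∈ Xa
  n2d' : ∀ g ∈ Xd, n2⁻¹ * g * n2 ∈ Xd
  n2sq : n2 ^ 2 ∈ T
  r1 : ∀ g ∈ Xa, g = 1 ∨ ∃ a ∈ Xa, ∃ τ ∈ T, ∃ a' ∈ Xa, n1 * g * n1⁻¹ = a * τ * n1 * a'
  r2 : ∀ g ∈ Xb, g = 1 ∨ ∃ b ∈ Xb, ∃ τ ∈ T, ∃ b' ∈ Xb, n2 * g * n2⁻¹ = b * τ * n2 * b'
  braid : ∃ τ ∈ T, n2 * n1 * n2 * n1 = τ * (n1 * n2 * n1 * n2)
  gen : Subgroup.closure ((T : Set G) ∪ (Xa : Set G) ∪ (Xb : Set G) ∪ {n1, n2}) = ⊤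

end BN

section Words

variable {G : Type u} [Group G]

/-- `[h_a, h_b]`. -/
def relS1 (ha hb : G) : G := cm ha hb

/-- `h_b⁻¹ u_a h_b = x_a(ζ)` (`za` = the word of `x_a(ζ)`). -/
def relS2 (ua hb za : G) : G := hb⁻¹ * ua * hb * za⁻¹

/-- `h_a u_b h_a⁻¹ = h_b⁻¹ u_b h_b`. -/
def relS3 (ha ub hb : G) : G := ha * ub * ha⁻¹ * (hb⁻¹ * ub * hb)⁻¹

/-- `w_a h_b w_a⁻¹ = h_b h_a`. -/
def relS4 (ha wa hb : G) : G := wa * hb * wa⁻¹ * (hb * ha)⁻¹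

/-- `w_b h_a w_b⁻¹ = h_a h_b²`. -/
def relS5 (ha hb wb : G) : G := wb * ha * wb⁻¹ * (ha * hb ^ 2)⁻¹

/-- `w_a w_b w_a w_b = w_b w_a w_b w_a`. -/
def relS6 (wa wb : G) : G := wa * wb * wa * wb * (wb * wa * wb * wa)⁻¹

/-- `(w_b w_a w_b⁻¹) u_a (w_b w_a w_b⁻¹)⁻¹ = u_a⁻¹`. -/
def relS7 (ua wa wb : G) : G := (wb * wa * wb⁻¹) * ua * (wb * wa * wb⁻¹)⁻¹ * ua

/-- `[w_a w_b w_a⁻¹, u_b] = 1`. -/
def relS8 (wa ub wb : G) : G := cm (wa * wb * wa⁻¹) ub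

/-- `[u_a, u_b] = (w_b⁻¹ u_a w_b) (w_a⁻¹ u_b w_a)`. -/
def relS9 (ua wa ub wb : G) : G := cm ua ub * ((wb⁻¹ * ua * wb) * (wa⁻¹ * ub * wa))⁻¹

/-- `[u_a, w_b⁻¹ u_a w_b] = (w_a⁻¹ u_b w_a)²`. -/
def relS10 (ua wa ub wb : G) : G := cm ua (wb⁻¹ * ua * wb) * ((wa⁻¹ * ub * wa) ^ 2)⁻¹

/-- `[u_a, w_a⁻¹ u_b w_a] = 1`. -/
def relS11 (ua wa ub : G) : G := cm ua (wa⁻¹ * ub * wa)

/-- `[u_b, w_a⁻¹ u_b w_a] = 1`. -/
def relS12 (wa ub : G) : G := cm ub (wa⁻¹ * ub * wa)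

end Words

section Free

/-- the six generators of `FreeGroup (Fin 6)`. -/
abbrev pUa : FreeGroup (Fin 6) := FreeGroup.of 0
abbrev pHa : FreeGroup (Fin 6) := FreeGroup.of 1
abbrev pWa : FreeGroup (Fin 6) := FreeGroup.of 2
abbrev pUb : FreeGroup (Fin 6) := FreeGroup.of 3
abbrev pHb : FreeGroup (Fin 6) := FreeGroup.of 4
abbrev pWb : FreeGroup (Fin 6) := FreeGroup.of 5

variable {G : Type u} [Group G]

/-- evaluation of a word of `FreeGroup (Fin 6)` at `u_a h_a w_a u_b h_b w_b`. -/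
def ev6 (ua ha wa ub hb wb : G) : FreeGroup (Fin 6) →* G := FreeGroup.lift ![ua, ha, wa, ub, hb, wb]

/-- the first copy of `FreeGroup (Fin 3)` (generators `0 1 2`). -/
def inA : FreeGroup (Fin 3) →* FreeGroup (Fin 6) := FreeGroup.map (Fin.castAdd 3)

/-- the second copy of `FreeGroup (Fin 3)` (generators `3 4 5`). -/
def inB : FreeGroup (Fin 3) →* FreeGroup (Fin 6) := FreeGroup.map (Fin.natAdd 3)

/-- the 12 structural relators (`za` = the word of `x_a(ζ)`). -/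
def wordsS6 (za : FreeGroup (Fin 6)) : List (FreeGroup (Fin 6)) :=
  [relS1 pHa pHb, relS2 pUa pHb za, relS3 pHa pUb pHb, relS4 pHa pWa pHb, relS5 pHa pHb pWb,
    relS6 pWa pWb, relS7 pUa pWa pWb, relS8 pWa pUb pWb, relS9 pUa pWa pUb pWb,
    relS10 pUa pWa pUb pWb, relS11 pUa pWa pUb, relS12 pWa pUb]

end Free

section Mat

open Matrix

variable {F : Type u} [Field F]

/-- the matrix of the short-root `SL₂`: `M ↦ [[M, 0], [0, (M⁻¹)ᵀ]]`. -/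
def rhoAm (M : Matrix (Fin 2) (Fin 2) F) : Matrix (Fin 2 ⊕ Fin 2) (Fin 2 ⊕ Fin 2) F :=
  Matrix.fromBlocks M 0 0 !![M 1 1, -M 1 0; -M 0 1, M 0 0]

/-- the matrix of the long-root `SL₂` acting on the hyperbolic pair `(e₂, f₂)`. -/
def rhoBm (M : Matrix (Fin 2) (Fin 2) F) : Matrix (Fin 2 ⊕ Fin 2) (Fin 2 ⊕ Fin 2) F :=
  Matrix.fromBlocks !![1, 0; 0, M 0 0] !![0, 0; 0, M 0 1] !![0, 0; 0, M 1 0] !![1, 0; 0, M 1 1]

theorem sl2_det (M : Matrix.SpecialLinearGroup (Fin 2) F) :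
    M.1 0 0 * M.1 1 1 - M.1 0 1 * M.1 1 0 = 1 := by
  have := M.2
  rwa [Matrix.det_fin_two] at this

theorem rhoAm_mem (M : Matrix.SpecialLinearGroup (Fin 2) F) :
    rhoAm M.1 ∈ Matrix.symplecticGroup (Fin 2) F := by
  have hdet := sl2_det M
  rw [SymplecticGroup.mem_iff]
  ext (i | i) (j | j) <;> fin_cases i <;> fin_cases j <;>
    simp [rhoAm, Matrix.J, Matrix.mul_apply, Fintype.sum_sum_type, Fin.sum_univ_two,
      Matrix.one_apply] <;>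
    first | done | ring1 | linear_combination hdet | linear_combination (-1 : F) * hdet

theorem rhoBm_mem (M : Matrix.SpecialLinearGroup (Fin 2) F) :
    rhoBm M.1 ∈ Matrix.symplecticGroup (Fin 2) F := by
  have hdet := sl2_det M
  rw [SymplecticGroup.mem_iff]
  ext (i | i) (j | j) <;> fin_cases i <;> fin_cases j <;>
    simp [rhoBm, Matrix.J, Matrix.mul_apply, Fintype.sum_sum_type, Fin.sum_univ_two,
      Matrix.one_apply] <;>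
    first | done | ring1 | linear_combination hdet | linear_combination (-1 : F) * hdet

theorem rhoAm_mul (M N : Matrix.SpecialLinearGroup (Fin 2) F) :
    rhoAm (M * N).1 = rhoAm M.1 * rhoAm N.1 := by
  ext (i | i) (j | j) <;> fin_cases i <;> fin_cases j <;>
    simp [rhoAm, Matrix.mul_apply, Fintype.sum_sum_type, Fin.sum_univ_two] <;> first | done | ring1

theorem rhoBm_mul (M N : Matrix.SpecialLinearGroup (Fin 2) F) :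
    rhoBm (M * N).1 = rhoBm M.1 * rhoBm N.1 := by
  ext (i | i) (j | j) <;> fin_cases i <;> fin_cases j <;>
    simp [rhoBm, Matrix.mul_apply, Fintype.sum_sum_type, Fin.sum_univ_two]

/-- the short-root `SL₂(F) → Sp₄(F)`. -/
def rhoA : Matrix.SpecialLinearGroup (Fin 2) F →* ↥(Matrix.symplecticGroup (Fin 2) F) :=
  MonoidHom.mk' (fun M => ⟨rhoAm M.1, rhoAm_mem M⟩) (fun M N => Subtype.ext (rhoAm_mul M N))

/-- the long-root `SL₂(F) → Sp₄(F)`. -/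
def rhoB : Matrix.SpecialLinearGroup (Fin 2) F →* ↥(Matrix.symplecticGroup (Fin 2) F) :=
  MonoidHom.mk' (fun M => ⟨rhoBm M.1, rhoBm_mem M⟩) (fun M N => Subtype.ext (rhoBm_mul M N))

theorem rhoA_coe (M : Matrix.SpecialLinearGroup (Fin 2) F) :
    ((rhoA M : ↥(Matrix.symplecticGroup (Fin 2) F)) : Matrix (Fin 2 ⊕ Fin 2) (Fin 2 ⊕ Fin 2) F) =
      rhoAm M.1 := rfl

theorem rhoB_coe (M : Matrix.SpecialLinearGroup (Fin 2) F) :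
    ((rhoB M : ↥(Matrix.symplecticGroup (Fin 2) F)) : Matrix (Fin 2 ⊕ Fin 2) (Fin 2 ⊕ Fin 2) F) =
      rhoBm M.1 := rfl

end Mat

end Cfsg.Agent.Lib.helper3.SP4
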